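import Groth.Agent.H4.Lang.KerPts
import Groth.Agent.Lib.EtFibreCount.Basic
import Groth.Agent.Lib.JacCrit.OverField
import Mathlib.FieldTheory.Galois.Basic

/-! The translations by the kernel points of an étale isogeny on the function field. -/

set_option autoImplicit false
set_option linter.style.haveILetI false

universe u

open CategoryTheory CategoryTheory.Limits MonoidalCategory CartesianMonoidalCategory AlgebraicGeometry
open scoped MonObj GrpObj

namespace Groth.Agent.H4.EllGal

noncomputable section

/-- The map of function fields of a morphism sending generic point to generic point. -/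
def ffMap {X Y : Scheme.{u}} [IsIntegral X] [IsIntegral Y] (f : X ⟶ Y)
    (e : f (genericPoint X) = genericPoint Y) : Y.functionField ⟶ X.functionField :=
  Y.presheaf.stalkSpecializes (specializes_of_eq e) ≫ f.stalkMap (genericPoint X)

theorem ffMap_spec {X Y : Scheme.{u}} [IsIntegral X] [IsIntegral Y] (f : X ⟶ Y)
    (e : f (genericPoint X) = genericPoint Y) :
    Spec.map (ffMap f e) ≫ Y.fromSpecStalk (genericPoint Y) = X.fromSpecStalk (genericPoint X) ≫ f := by
  rw [ffMap, Spec.map_comp, Category.assoc, Scheme.SpecMap_stalkSpecializes_fromSpecStalk,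
    Scheme.SpecMap_stalkMap_fromSpecStalk]

theorem eq_of_ffMap {X Y : Scheme.{u}} [IsIntegral X] [IsIntegral Y] {S : Scheme.{u}} (s : Y ⟶ S)
    [IsSeparated s] {f g : X ⟶ Y} (ef : f (genericPoint X) = genericPoint Y)
    (eg : g (genericPoint X) = genericPoint Y) (h : ffMap f ef = ffMap g eg) (hs : f ≫ s = g ≫ s) :
    f = g := by
  haveI : IsDominant (X.fromSpecStalk (genericPoint X)) := by
    constructor
    have h1 : genericPoint X ∈ Set.range (X.fromSpecStalk (genericPoint X)) :=
      ⟨_, Scheme.fromSpecStalk_closedPoint⟩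
    exact Dense.mono (Set.singleton_subset_iff.2 h1)
      (dense_iff_closure_eq.2 (genericPoint_spec X))
  refine ext_of_isDominant_of_isSeparated s hs (X.fromSpecStalk (genericPoint X)) ?_
  rw [← ffMap_spec f ef, ← ffMap_spec g eg, h]

variable {k : Type u} [Field k] [IsAlgClosed k] {E E' : Over (Spec (CommRingCat.of k))}
  [GrpObj E] [GrpObj E'] [IsIntegral E.left] [IsIntegral E'.left] [IsProper E.hom]
  (φ : E ⟶ E') [IsMonHom φ]

abbrev Ker := {P : 𝟙_ (Over (Spec (CommRingCat.of k))) ⟶ E // P ≫ φ = η[E']}

/-- Translation by a point. -/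
def transl (P : 𝟙_ (Over (Spec (CommRingCat.of k))) ⟶ E) : E ⟶ E := 𝟙 E * (toUnit E ≫ P)

omit [IsAlgClosed k] [IsIntegral E.left] [IsProper E.hom] in
theorem transl_comp_transl (P Q : 𝟙_ (Over (Spec (CommRingCat.of k))) ⟶ E) :
    transl P ≫ transl Q = transl (P * Q) := by
  simp only [transl, MonObj.comp_mul, Category.comp_id]
  rw [← Category.assoc _ (toUnit E) Q, toUnit_unique (_ ≫ toUnit E) (toUnit E), _root_.mul_assoc]

omit [IsAlgClosed k] [IsIntegral E.left] [IsProper E.hom] in
theorem transl_one : transl (1 : 𝟙_ (Over (Spec (CommRingCat.of k))) ⟶ E) = 𝟙 E := by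
  rw [transl, MonObj.comp_one, _root_.mul_one]

omit [IsAlgClosed k] [IsIntegral E.left] [IsProper E.hom] [IsIntegral E'.left] in
theorem transl_comp_hom (P : Ker φ) : transl P.1 ≫ φ = φ := by
  rw [transl, MonObj.mul_comp, Category.id_comp, Category.assoc, P.2, ← Hom.one_def, _root_.mul_one]

omit [IsAlgClosed k] [IsIntegral E.left] [IsProper E.hom] in
theorem transl_injective : Function.Injective (transl : (𝟙_ (Over (Spec (CommRingCat.of k))) ⟶ E) → (E ⟶ E)) :=
  fun P Q h => by
  have h' := congrArg (fun f => η[E] ≫ f) (mul_left_cancel h)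
  simpa [toUnit_unique (η[E] ≫ toUnit E) (𝟙 _)] using h'

omit [IsAlgClosed k] [IsIntegral E.left] [IsProper E.hom] in
theorem isIso_transl (P : 𝟙_ (Over (Spec (CommRingCat.of k))) ⟶ E) : IsIso (transl P) :=
  ⟨transl P⁻¹, by rw [transl_comp_transl, mul_inv_cancel, transl_one],
    by rw [transl_comp_transl, inv_mul_cancel, transl_one]⟩

omit [IsAlgClosed k] [IsProper E.hom] in
theorem transl_generic (P : 𝟙_ (Over (Spec (CommRingCat.of k))) ⟶ E) :
    (transl P).left (genericPoint E.left) = genericPoint E.left := by
  haveI := isIso_transl P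
  haveI : IsIso (transl P).left := inferInstanceAs (IsIso ((Over.forget _).map (transl P)))
  refine ((genericPoint_spec E.left).image (transl P).left.continuous).eq ?_
  rw [Set.image_univ, (transl P).left.denseRange.closure_range]
  exact genericPoint_spec E.left

theorem natCard_ker [IsFinite φ.left] [IsSeparated E'.hom] :
    Nat.card (Ker φ) = Nat.card {x : E.left // φ.left x = η[E'].left (IsLocalRing.closedPoint k)} := by
  haveI : JacobsonSpace ↥(𝟙_ (Over (Spec (CommRingCat.of k)))).left :=
    inferInstanceAs (JacobsonSpace (PrimeSpectrum k))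
  haveI : Subsingleton ↥(𝟙_ (Over (Spec (CommRingCat.of k)))).left :=
    inferInstanceAs (Subsingleton (PrimeSpectrum k))
  refine (Nat.card_congr ((Equiv.subtypeEquivRight fun P => ?_).trans (Lang.kerPtsEquiv φ))).trans ?_
  · rw [Hom.one_def, toUnit_unique (toUnit (Over.mk (𝟙 (Spec (CommRingCat.of k))))) (𝟙 _)]
    exact ⟨fun h => h.trans (Category.id_comp _).symm, fun h => h.trans (Category.id_comp _)⟩
  haveI := isClosedImmersion_of_comp_eq_id E'.hom η[E'].left (Over.w η[E'])
  refine (Nat.card_congr ((Equiv.ofInjective _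
    (pullback.fst φ.left η[E'].left).isEmbedding.injective).trans (Equiv.setCongr ?_))).trans rfl
  rw [Scheme.Pullback.range_fst]
  ext x
  show (∃ y, η[E'].left y = φ.left x) ↔ φ.left x = η[E'].left (IsLocalRing.closedPoint k)
  exact ⟨fun ⟨y, hy⟩ => by rw [← hy]; exact congrArg _ (Subsingleton.elim y _), fun h => ⟨_, h.symm⟩⟩

theorem isGalois_and_card [Smooth E.hom] [IsProper E'.hom] [Smooth E'.hom]
    [IsFinite φ.left] [Surjective φ.left] [Etale φ.left]
    (e : φ.left (genericPoint E.left) = genericPoint E'.left) :
    letI := (ffMap φ.left e).hom.toAlgebra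
    IsGalois E'.left.functionField E.left.functionField ∧
      Nat.card (E.left.functionField ≃ₐ[E'.left.functionField] E.left.functionField) =
        Nat.card (Ker φ) := by
  letI := (ffMap φ.left e).hom.toAlgebra
  have hreg : ∀ {Z : Over (Spec (CommRingCat.of k))} [Smooth Z.hom] (x : Z.left),
      IsRegularLocalRing (Z.left.presheaf.stalk x) := fun {Z} _ x =>
    Lib.JacCrit.OverField.isRegularLocalRing_stalk Z.hom x (by
      rw [Scheme.Hom.smoothLocus_eq_top]; trivial)
  have hcl : IsClosed ({η[E'].left (IsLocalRing.closedPoint k)} : Set E'.left) := by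
    haveI := isClosedImmersion_of_comp_eq_id E'.hom η[E'].left (Over.w η[E'])
    have hr := η[E'].left.isClosedEmbedding.isClosed_range
    haveI : Subsingleton ↥(𝟙_ (Over (Spec (CommRingCat.of k)))).left :=
      inferInstanceAs (Subsingleton (PrimeSpectrum k))
    haveI : Nonempty ↥(𝟙_ (Over (Spec (CommRingCat.of k)))).left :=
      inferInstanceAs (Nonempty (PrimeSpectrum k))
    rwa [show Set.range η[E'].left = {η[E'].left (IsLocalRing.closedPoint k)} from ?_] at hr
    exact Set.range_eq_singleton fun x => congrArg _ (Subsingleton.elim x (IsLocalRing.closedPoint k : PrimeSpectrum k))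
  have hdeg : Nat.card (Ker φ) = Module.finrank E'.left.functionField E.left.functionField :=
    (natCard_ker φ).trans (Lib.EtFibreCount.Basic.natCard_fibre k E.hom E'.hom (fun x => hreg x)
      (fun y => hreg y) φ.left (Over.w φ) e _ hcl)
  have hpos : 0 < Nat.card (Ker φ) := by
    haveI : Finite {x : E.left // φ.left x = η[E'].left (IsLocalRing.closedPoint k)} :=
      (IsFinite.finite_preimage_singleton φ.left _).to_subtype
    obtain ⟨x, hx⟩ := φ.left.surjective (η[E'].left (IsLocalRing.closedPoint k))
    haveI : Nonempty {x : E.left // φ.left x = η[E'].left (IsLocalRing.closedPoint k)} := ⟨⟨x, hx⟩⟩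
    rw [natCard_ker φ]
    exact Nat.card_pos
  haveI : FiniteDimensional E'.left.functionField E.left.functionField :=
    Module.finite_of_finrank_pos (hdeg ▸ hpos)
  have hσ : ∀ P : Ker φ, ∀ a : E'.left.functionField,
      (ffMap (transl P.1).left (transl_generic P.1)).hom ((ffMap φ.left e).hom a) = (ffMap φ.left e).hom a := by
    intro P
    have h : ffMap φ.left e ≫ ffMap (transl P.1).left (transl_generic P.1) = ffMap φ.left e := by
      apply Spec.map_injective
      rw [← cancel_mono (E'.left.fromSpecStalk (genericPoint E'.left)), Spec.map_comp, Category.assoc,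
        ffMap_spec, ← Category.assoc, ffMap_spec, Category.assoc, ← Over.comp_left, transl_comp_hom]
    exact fun a => ConcreteCategory.congr_hom h a
  let F : Ker φ → (E.left.functionField →ₐ[E'.left.functionField] E.left.functionField) := fun P =>
    { __ := (ffMap (transl P.1).left (transl_generic P.1)).hom, commutes' := hσ P }
  have hF : Function.Injective F := fun P Q h => by
    refine Subtype.ext (transl_injective (Over.OverMorphism.ext
      (eq_of_ffMap E.hom (transl_generic P.1) (transl_generic Q.1) (CommRingCat.hom_ext ?_) ?_)))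
    · exact congrArg AlgHom.toRingHom h
    · rw [Over.w, Over.w]
  let G := (algEquivEquivAlgHom E'.left.functionField E.left.functionField).toEquiv.symm ∘ F
  have h1 : Nat.card (Ker φ) ≤ Nat.card (E.left.functionField ≃ₐ[E'.left.functionField] E.left.functionField) :=
    Nat.card_le_card_of_injective G ((Equiv.injective _).comp hF)
  have h2 : Nat.card (E.left.functionField ≃ₐ[E'.left.functionField] E.left.functionField) ≤
      Module.finrank E'.left.functionField E.left.functionField := by
    rw [Nat.card_eq_fintype_card]; exact AlgEquiv.card_le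
  have h3 : Nat.card (E.left.functionField ≃ₐ[E'.left.functionField] E.left.functionField) =
      Nat.card (Ker φ) := le_antisymm (h2.trans hdeg.ge) h1
  exact ⟨IsGalois.of_card_aut_eq_finrank _ _ (h3.trans hdeg), h3⟩

end

end Groth.Agent.H4.EllGal
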